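import Mathlib

/-! # First cotangent module of a complete intersection in affine space -/

set_option autoImplicit false

universe u

open MvPolynomial

namespace TOneLib

theorem relation_mem_span {P : Type u} [CommRing P] : ∀ {n : ℕ} (f : Fin n → P),
    RingTheory.Sequence.IsWeaklyRegular P (List.ofFn f) →
      ∀ a : Fin n → P, ∑ i, a i * f i = 0 → ∀ i, a i ∈ Ideal.span (Set.range f) := by
  intro n
  induction n with
  | zero => exact fun f _ a _ i => i.elim0
  | succ n ih =>
    intro f hf a ha
    let g : Fin n → P := fun i => f i.castSucc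
    have hrs : List.ofFn f = List.ofFn g ++ [f (Fin.last n)] := by
      rw [List.ofFn_succ', List.concat_eq_append]
    rw [hrs, RingTheory.Sequence.isWeaklyRegular_append_iff, RingTheory.Sequence.isWeaklyRegular_singleton_iff] at hf
    have hI : Ideal.ofList (List.ofFn g) = Ideal.span (Set.range g) := by
      unfold Ideal.ofList
      congr 1
      ext x
      simp [List.mem_ofFn]
    have hle : Ideal.span (Set.range g) ≤ Ideal.span (Set.range f) :=
      Ideal.span_mono (Set.range_comp_subset_range Fin.castSucc f)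
    rw [Fin.sum_univ_castSucc] at ha
    have hlast : a (Fin.last n) ∈ Ideal.span (Set.range g) := by
      have h2 : f (Fin.last n) • (Submodule.Quotient.mk (a (Fin.last n)) :
          P ⧸ (Ideal.ofList (List.ofFn g) • ⊤ : Submodule P P)) =
          f (Fin.last n) • (0 : P ⧸ (Ideal.ofList (List.ofFn g) • ⊤ : Submodule P P)) := by
        rw [smul_zero, ← Submodule.Quotient.mk_smul, Submodule.Quotient.mk_eq_zero, hI]
        rw [smul_eq_mul, Ideal.mul_top, smul_eq_mul, mul_comm, eq_neg_of_add_eq_zero_right ha]
        exact neg_mem (Ideal.sum_mem _ fun i _ => Ideal.mul_mem_left _ _ (Ideal.subset_span ⟨i, rfl⟩))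
      have h3 := (Submodule.Quotient.mk_eq_zero _).1 (hf.2 h2)
      rwa [hI, smul_eq_mul, Ideal.mul_top] at h3
    refine Fin.lastCases (hle hlast) fun i => ?_
    obtain ⟨c, hc⟩ := Ideal.mem_span_range_iff_exists_fun.1 hlast
    have h4 : ∑ i : Fin n, (a i.castSucc + c i * f (Fin.last n)) * g i = 0 := by
      have hci : ∑ i : Fin n, c i * f (Fin.last n) * g i = a (Fin.last n) * f (Fin.last n) := by
        rw [← hc, Finset.sum_mul]
        exact Finset.sum_congr rfl fun i _ => by ring
      simp only [add_mul, Finset.sum_add_distrib, hci]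
      exact ha
    have h5 := hle (ih g hf.1 _ h4 i)
    exact (Ideal.add_mem_iff_left _ (Ideal.mul_mem_left _ _ (Ideal.subset_span (Set.mem_range_self (Fin.last n))))).1 h5

theorem exists_hom {P : Type u} [CommRing P] {n : ℕ} (f : Fin n → P)
    (hreg : RingTheory.Sequence.IsWeaklyRegular P (List.ofFn f)) (b : Fin n → P ⧸ Ideal.span (Set.range f)) :
    ∃ φ : ↥(Ideal.span (Set.range f)) →ₗ[P] P ⧸ Ideal.span (Set.range f),
      ∀ i, φ ⟨f i, Ideal.subset_span (Set.mem_range_self i)⟩ = b i := by
  classical
  let J := Ideal.span (Set.range f)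
  let L : (Fin n → P) →ₗ[P] ↥J := (Fintype.linearCombination P f).codRestrict J fun a => by
    rw [Fintype.linearCombination_apply]
    exact Ideal.sum_mem _ fun i _ => Ideal.mul_mem_left _ _ (Ideal.subset_span (Set.mem_range_self i))
  have hL : Function.Surjective L := fun x => by
    obtain ⟨c, hc⟩ := Ideal.mem_span_range_iff_exists_fun.1 x.2
    exact ⟨c, Subtype.ext ((Fintype.linearCombination_apply P f c).trans hc)⟩
  let ψ : (Fin n → P) →ₗ[P] P ⧸ J := Fintype.linearCombination P b
  have hker : LinearMap.ker L ≤ LinearMap.ker ψ := fun a ha => by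
    have h0 : ∑ i, a i * f i = 0 :=
      ((Fintype.linearCombination_apply P f a).symm.trans (congrArg Subtype.val (LinearMap.mem_ker.1 ha)))
    rw [LinearMap.mem_ker, Fintype.linearCombination_apply]
    refine Finset.sum_eq_zero fun i _ => ?_
    rw [Algebra.smul_def, Ideal.Quotient.algebraMap_eq,
      Ideal.Quotient.eq_zero_iff_mem.2 (relation_mem_span f hreg a h0 i), zero_mul]
  refine ⟨(LinearMap.ker L).liftQ ψ hker ∘ₗ (L.quotKerEquivOfSurjective hL).symm.toLinearMap, fun i => ?_⟩
  have h1 : L (Pi.single i 1) = ⟨f i, Ideal.subset_span (Set.mem_range_self i)⟩ :=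
    Subtype.ext (by simp [L, Fintype.linearCombination_apply_single])
  rw [← h1]
  have h2 : (L.quotKerEquivOfSurjective hL).symm (L (Pi.single i 1)) = Submodule.Quotient.mk (Pi.single i 1) := by
    rw [LinearEquiv.symm_apply_eq]; rfl
  simp only [LinearMap.comp_apply, LinearEquiv.coe_coe, h2, Submodule.liftQ_apply]
  simp [ψ, Fintype.linearCombination_apply_single]

theorem derivation_eq_sum {k : Type u} [CommRing k] {d : ℕ} {M : Type u} [AddCommGroup M] [Module k M]
    [Module (MvPolynomial (Fin d) k) M] [IsScalarTower k (MvPolynomial (Fin d) k) M]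
    (D : Derivation k (MvPolynomial (Fin d) k) M) (p : MvPolynomial (Fin d) k) :
    D p = ∑ j, pderiv j p • D (X j) := by
  induction p using MvPolynomial.induction_on with
  | C a => simp [derivation_C]
  | add p q hp hq => simp [hp, hq, add_smul, Finset.sum_add_distrib]
  | mul_X p i hp =>
    rw [Derivation.leibniz, hp, Finset.smul_sum]
    simp only [pderiv_mul, pderiv_X, add_smul, mul_smul, Finset.sum_add_distrib]
    rw [add_comm]
    congr 1
    · refine Finset.sum_congr rfl fun j _ => ?_
      rw [smul_comm]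
    · rw [Finset.sum_eq_single i]
      · simp
      · intro j _ hj
        simp [Pi.single_eq_of_ne (Ne.symm hj)]
      · simp

theorem exists_equiv {k : Type u} [CommRing k] (d n : ℕ)
    (f : Fin n → MvPolynomial (Fin d) k)
    (hreg : RingTheory.Sequence.IsWeaklyRegular (MvPolynomial (Fin d) k) (List.ofFn f)) :
    ∃ e : ((↥(Ideal.span (Set.range f)) →ₗ[MvPolynomial (Fin d) k] (MvPolynomial (Fin d) k ⧸ Ideal.span (Set.range f))) ⧸
            Submodule.span (MvPolynomial (Fin d) k)
              {ψ : ↥(Ideal.span (Set.range f)) →ₗ[MvPolynomial (Fin d) k] (MvPolynomial (Fin d) k ⧸ Ideal.span (Set.range f)) |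
                ∃ D : Derivation k (MvPolynomial (Fin d) k) (MvPolynomial (Fin d) k ⧸ Ideal.span (Set.range f)), ∀ a : ↥(Ideal.span (Set.range f)), ψ a = D (a : MvPolynomial (Fin d) k)}) ≃ₗ[MvPolynomial (Fin d) k]
          ((Fin n → MvPolynomial (Fin d) k ⧸ Ideal.span (Set.range f)) ⧸
            Submodule.span (MvPolynomial (Fin d) k ⧸ Ideal.span (Set.range f))
              (Set.range fun j : Fin d => fun i : Fin n => Ideal.Quotient.mk (Ideal.span (Set.range f)) (pderiv j (f i)))),
      ∀ φ : ↥(Ideal.span (Set.range f)) →ₗ[MvPolynomial (Fin d) k] (MvPolynomial (Fin d) k ⧸ Ideal.span (Set.range f)),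
        e (Submodule.Quotient.mk φ) =
          Submodule.Quotient.mk (fun i : Fin n => φ ⟨f i, Ideal.subset_span (Set.mem_range_self i)⟩) := by
  classical
  let P := MvPolynomial (Fin d) k
  let J := Ideal.span (Set.range f)
  let N := Submodule.span (P ⧸ J) (Set.range fun j : Fin d => fun i : Fin n => Ideal.Quotient.mk J (pderiv j (f i)))
  let Φ : (↥J →ₗ[P] P ⧸ J) →ₗ[P] (Fin n → P ⧸ J) :=
    { toFun := fun φ i => φ ⟨f i, Ideal.subset_span (Set.mem_range_self i)⟩
      map_add' := fun _ _ => rfl
      map_smul' := fun _ _ => rfl }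
  have hgen : Submodule.span P (Set.range fun i : Fin n => (⟨f i, Ideal.subset_span (Set.mem_range_self i)⟩ : ↥J)) = ⊤ := by
    apply Submodule.map_injective_of_injective (f := J.subtype) (Submodule.subtype_injective _)
    rw [Submodule.map_span, Submodule.map_top, Submodule.range_subtype, ← Set.range_comp]
    rfl
  have hΦi : Function.Injective Φ := fun φ φ' h => LinearMap.ext_on_range hgen fun i => congrFun h i
  let Ψ : (↥J →ₗ[P] P ⧸ J) →ₗ[P] ((Fin n → P ⧸ J) ⧸ N) := (N.mkQ.restrictScalars P) ∘ₗ Φ
  have hΨ : Function.Surjective Ψ := fun x => by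
    obtain ⟨b, rfl⟩ := Submodule.Quotient.mk_surjective _ x
    obtain ⟨φ, hφ⟩ := exists_hom f hreg b
    exact ⟨φ, congrArg Submodule.Quotient.mk (funext hφ)⟩
  have hker : Submodule.span P {ψ : ↥J →ₗ[P] P ⧸ J | ∃ D : Derivation k P (P ⧸ J), ∀ a : ↥J, ψ a = D (a : P)} =
      LinearMap.ker Ψ := by
    refine le_antisymm (Submodule.span_le.2 ?_) fun φ hφ => ?_
    · rintro ψ ⟨D, hD⟩
      rw [SetLike.mem_coe, LinearMap.mem_ker]
      refine (Submodule.Quotient.mk_eq_zero N).2 ((Submodule.mem_span_range_iff_exists_fun _).2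
        ⟨fun j => D (X j), ?_⟩)
      funext i
      rw [Finset.sum_apply]
      refine Eq.trans ?_ ((hD _).trans (derivation_eq_sum D (f i))).symm
      refine Finset.sum_congr rfl fun j _ => ?_
      rw [Pi.smul_apply, smul_eq_mul, mul_comm]
      exact (Algebra.smul_def _ _).symm
    · obtain ⟨c, hc⟩ := (Submodule.mem_span_range_iff_exists_fun _).1 ((Submodule.Quotient.mk_eq_zero N).1 hφ)
      refine Submodule.subset_span ⟨mkDerivation k c, fun a => ?_⟩
      have hann : ∀ x ∈ J, ∀ y : P ⧸ J, x • y = 0 := fun x hx y => by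
        obtain ⟨y, rfl⟩ := Ideal.Quotient.mk_surjective y
        exact Ideal.Quotient.eq_zero_iff_mem.2 (J.mul_mem_right y hx)
      let ψ : ↥J →ₗ[P] P ⧸ J :=
        { toFun := fun a => mkDerivation k c (a : P)
          map_add' := fun _ _ => map_add _ _ _
          map_smul' := fun p a => by
            simp only [Submodule.coe_smul, smul_eq_mul, Derivation.leibniz, RingHom.id_apply]
            rw [hann _ a.2, add_zero] }
      suffices φ = ψ from LinearMap.congr_fun this a
      refine hΦi (funext fun i => ?_)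
      show Φ φ i = mkDerivation k c (f i)
      rw [derivation_eq_sum, ← congrFun hc i, Finset.sum_apply]
      refine Finset.sum_congr rfl fun j _ => ?_
      rw [mkDerivation_X, Pi.smul_apply, smul_eq_mul, mul_comm]
      exact (Algebra.smul_def _ _).symm
  exact ⟨(Submodule.quotEquivOfEq _ _ hker).trans (Ψ.quotKerEquivOfSurjective hΨ), fun φ => rfl⟩

end TOneLib
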